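import Cfsg.Statements.S1156
import Cfsg.Agent.H4.ReeTori

set_option autoImplicit false
open Cfsg

namespace Cfsg.Agent.S1156

/-- In the small Ree group ²G₂(q), q = 3^(2m+1) with m ≥ 1, realised as G¹ inside the Chevalley group G₂ over the field with q elements (θ the 3^m-th power map): for every prime `p > 3` the Sylow `p`-subgroups of `G¹` are cyclic. -/
theorem result {K : Type*} [Field K] [Fintype K] {m : ℕ} (hm : 1 ≤ m) (hK : Fintype.card K = 3 ^ (2 * m + 1))
    {p : ℕ} [Fact p.Prime] (hp : 3 < p) (P : Sylow p ↥(Cfsg.Lie.twistedG2 K (3 ^ m))) : IsCyclic (P : Subgroup ↥(Cfsg.Lie.twistedG2 K (3 ^ m))) := by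
  have : Fact (Nat.Prime 3) := ⟨Nat.prime_three⟩
  have : CharP K 3 := charP_of_card_eq_prime_pow hK
  have hq : Fintype.card K % 24 = 3 := hK ▸ H4.Ree.q_mod m
  let M := H4.Ree.model hK
  have := M.finite
  have hp' : p.Prime := Fact.out
  have h2 : ¬ p ∣ 2 := fun h => by have := Nat.le_of_dvd (by decide) h; omega
  have h3 : ¬ p ∣ Fintype.card K := fun h => by
    have := Nat.le_of_dvd (by decide) (hp'.dvd_of_dvd_pow (hK ▸ h)); omega
  by_cases h : p ∣ H4.Ree.MM (Fintype.card K)
  · obtain ⟨y, hy, h1⟩ := M.exists_XM hq hp' h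
    have := (M.cent_struct' hq hy).1
    exact H4.sylow_cyclic _ (M.hall hq hy hp' h1) P
  by_cases h' : p ∣ Fintype.card K + 1
  · have := M.Aq_cyclic
    exact H4.sylow_cyclic _ (M.not_dvd_index_Aq hq hp' (by omega) h') P
  · have := M.Ah_cyclic
    refine H4.sylow_cyclic M.Ah (fun h4 => ?_) P
    have h5 := Subgroup.card_mul_index M.Ah
    rw [M.card_Ah hq, M.card_G, H4.Ree.cube_add_one (by omega)] at h5
    have h6 : M.Ah.index = (Fintype.card K + 1) * H4.Ree.MM (Fintype.card K) *
        (Fintype.card K ^ 3 * 2) := by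
      apply Nat.eq_of_mul_eq_mul_left (by omega : 0 < (Fintype.card K - 1) / 2)
      rw [h5]
      have : Fintype.card K - 1 = 2 * ((Fintype.card K - 1) / 2) := by omega
      generalize (Fintype.card K - 1) / 2 = a at *
      rw [this]; ring
    rw [h6] at h4
    rcases (Nat.Prime.dvd_mul hp').1 h4 with h4 | h4 <;>
      rcases (Nat.Prime.dvd_mul hp').1 h4 with h4 | h4
    · exact h' h4
    · exact h h4
    · exact h3 (hp'.dvd_of_dvd_pow h4)
    · exact h2 h4

end Cfsg.Agent.S1156
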