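import Cfsg.Statements.S1158
import Cfsg.Agent.H4.ReeTori

set_option autoImplicit false
open Cfsg

namespace Cfsg.Agent.S1158

/-- In the small Ree group ²G₂(q), q = 3^(2m+1) with m ≥ 1, realised as G¹ inside the Chevalley group G₂ over the field with q elements (θ the 3^m-th power map), with `r = 3^(m+1)` (so `r² = 3q`): for each `k ∈ {(q-1)/2, (q+1)/4, q - r + 1, q + r + 1}` there is a cyclic subgroup `A` of order `k` whose normaliser has order `2(q-1)`, `6(q+1)`, `6(q-r+1)`, `6(q+r+1)` respectively, and `N(A₀) = N(A)` for every non-trivial `A₀ ≤ A`. -/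
theorem result {K : Type*} [Field K] [Fintype K] {m : ℕ} (hm : 1 ≤ m) (hK : Fintype.card K = 3 ^ (2 * m + 1)) :
    ∀ kn ∈ ({((3 ^ (2 * m + 1) - 1) / 2, 2 * (3 ^ (2 * m + 1) - 1)), ((3 ^ (2 * m + 1) + 1) / 4, 6 * (3 ^ (2 * m + 1) + 1)),
        (3 ^ (2 * m + 1) - 3 ^ (m + 1) + 1, 6 * (3 ^ (2 * m + 1) - 3 ^ (m + 1) + 1)),
        (3 ^ (2 * m + 1) + 3 ^ (m + 1) + 1, 6 * (3 ^ (2 * m + 1) + 3 ^ (m + 1) + 1))} : Set (ℕ × ℕ)),
      ∃ A : Subgroup ↥(Cfsg.Lie.twistedG2 K (3 ^ m)), IsCyclic A ∧ Nat.card A = kn.1 ∧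
        Nat.card (Subgroup.normalizer (A : Set ↥(Cfsg.Lie.twistedG2 K (3 ^ m)))) = kn.2 ∧
        ∀ A₀ : Subgroup ↥(Cfsg.Lie.twistedG2 K (3 ^ m)), A₀ ≤ A → A₀ ≠ ⊥ →
          Subgroup.normalizer (A₀ : Set ↥(Cfsg.Lie.twistedG2 K (3 ^ m))) = Subgroup.normalizer (A : Set ↥(Cfsg.Lie.twistedG2 K (3 ^ m))) := by
  have : Fact (Nat.Prime 3) := ⟨Nat.prime_three⟩
  have : CharP K 3 := charP_of_card_eq_prime_pow hK
  have hq : Fintype.card K % 24 = 3 := hK ▸ H4.Ree.q_mod m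
  have hq' : 27 ≤ Fintype.card K := hK ▸ H4.Ree.q_ge hm
  have hr : 3 ^ (m + 1) * 3 ^ (m + 1) = 3 * Fintype.card K := by rw [hK]; ring
  let M := H4.Ree.model hK
  have := M.finite
  obtain ⟨y1, hy1, y2, hy2, e1, e2, n1, n2, -⟩ := M.tori hq hq' hr
  rw [← hK]
  rintro kn (rfl | rfl | rfl | rfl)
  · have h : M.Ah ≠ ⊥ := fun h => by
      have := M.card_Ah hq
      rw [h, Subgroup.card_bot] at this
      omega
    refine ⟨M.Ah, M.Ah_cyclic, M.card_Ah hq, ?_, fun A₀ h0 h1 => ?_⟩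
    · rw [M.normalizer_eq_Nn le_rfl h, M.card_Nn]
    · rw [M.normalizer_eq_Nn le_rfl h, M.normalizer_eq_Nn h0 h1]
  · have h := M.Aq_ne_bot hq hq'
    refine ⟨M.Aq, M.Aq_cyclic, M.card_Aq hq, ?_, fun A₀ h0 h1 => ?_⟩
    · rw [M.normalizer_eq_NT hq le_rfl h, M.card_NT hq hq']
    · rw [M.normalizer_eq_NT hq le_rfl h, M.normalizer_eq_NT hq h0 h1]
  · exact ⟨_, (M.cent_struct' hq hy1).1, e1, by rw [n1, e1], fun A₀ h0 h1 => M.norm_eq hq hy1 h0 h1⟩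
  · exact ⟨_, (M.cent_struct' hq hy2).1, e2, by rw [n2, e2], fun A₀ h0 h1 => M.norm_eq hq hy2 h0 h1⟩

end Cfsg.Agent.S1158
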