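import Cfsg.Statements.S1159
import Cfsg.Agent.H4.ReeTori

set_option autoImplicit false
open Cfsg

namespace Cfsg.Agent.S1159

/-- In the small Ree group ²G₂(q), q = 3^(2m+1) with m ≥ 1, realised as G¹ inside the Chevalley group G₂ over the field with q elements (θ the 3^m-th power map), with `r = 3^(m+1)`: a natural number is the order of an element of `G¹` iff it divides one of `6`, `9`, `q - 1`, `(q + 1)/2`, `q - r + 1`, `q + r + 1`. -/
theorem result {K : Type*} [Field K] [Fintype K] {m : ℕ} (hm : 1 ≤ m) (hK : Fintype.card K = 3 ^ (2 * m + 1)) (d : ℕ) :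
    (∃ g : ↥(Cfsg.Lie.twistedG2 K (3 ^ m)), orderOf g = d) ↔
      (d ∣ 6 ∨ d ∣ 9 ∨ d ∣ 3 ^ (2 * m + 1) - 1 ∨ d ∣ (3 ^ (2 * m + 1) + 1) / 2 ∨
        d ∣ 3 ^ (2 * m + 1) - 3 ^ (m + 1) + 1 ∨ d ∣ 3 ^ (2 * m + 1) + 3 ^ (m + 1) + 1) := by
  have : Fact (Nat.Prime 3) := ⟨Nat.prime_three⟩
  have : CharP K 3 := charP_of_card_eq_prime_pow hK
  have hq : Fintype.card K % 24 = 3 := hK ▸ H4.Ree.q_mod m
  have hq' : 27 ≤ Fintype.card K := hK ▸ H4.Ree.q_ge hm
  have hr : 3 ^ (m + 1) * 3 ^ (m + 1) = 3 * Fintype.card K := by rw [hK]; ring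
  let M := H4.Ree.model hK
  have := M.finite
  rw [← hK]
  constructor
  · rintro ⟨g, rfl⟩
    simpa only [orderOf_dvd_iff_pow_eq_one] using M.order_cases hq hq' hr g
  · obtain ⟨y1, hy1, y2, hy2, e1, e2, -⟩ := M.tori hq hq' hr
    have key : ∀ n, (∃ g : ↥(Cfsg.Lie.twistedG2 K (3 ^ m)), orderOf g = n) → d ∣ n →
        ∃ g : ↥(Cfsg.Lie.twistedG2 K (3 ^ m)), orderOf g = d := by
      rintro n ⟨g, rfl⟩ h
      obtain ⟨j, hj⟩ := H4.exists_pow_prime_order h
      exact ⟨_, hj⟩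
    rintro (h | h | h | h | h | h)
    · exact key _ M.exists_order_six h
    · exact key _ M.exists_order_nine h
    · exact key _ M.exists_order_pred h
    · exact key _ (M.exists_order_half hq) h
    · exact key _ (e1 ▸ M.exists_order_cent hq hy1) h
    · exact key _ (e2 ▸ M.exists_order_cent hq hy2) h

end Cfsg.Agent.S1159
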