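import Cfsg.Statements.S5727
import Cfsg.Agent.H3.SylowOrbit

set_option autoImplicit false
open Cfsg

namespace Cfsg.Agent.S5727



/-- If a finite group acts faithfully and transitively on a set with m·p elements, where p is a prime and 1 ≤ m ≤ p, then some element of order p fixes no point. -/
theorem result {G Ω : Type*} [Group G] [Finite G] [MulAction G Ω] [FaithfulSMul G Ω] [Fintype Ω] (htr : MulAction.IsPretransitive G Ω)
    (p m : ℕ) (hp : p.Prime) (hm : 1 ≤ m) (hmp : m ≤ p) (hΩ : Fintype.card Ω = m * p) :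
    ∃ g : G, orderOf g = p ∧ ∀ ω : Ω, g • ω ≠ ω := by
  classical
  have hf : ∀ g : G, (∀ x : Ω, g • x = x) → g = 1 :=
    fun g hg => eq_of_smul_eq_smul (α := Ω) fun x => by rw [hg, one_smul]
  rcases hmp.eq_or_lt with rfl | hlt
  · exact H3.exists_derangement_of_prime_pow hf hp (k := 2) (by norm_num)
      (by rw [Nat.card_eq_fintype_card, hΩ, sq])
  have : Fact p.Prime := ⟨hp⟩
  obtain ⟨P, hP⟩ := H3.exists_sylowIn hp (⊤ : Subgroup G)
  obtain ⟨e, he⟩ := IsPGroup.iff_card.1 hP.pgroup
  have horb : ∀ a : Ω, (MulAction.orbit P a).ncard = p := by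
    intro a
    have h1 := H3.pow_dvd_ncard_orbit_sylow hp hP (k := 1)
      (show p ^ 1 ∣ Nat.card Ω by rw [Nat.card_eq_fintype_card, hΩ, pow_one]; exact dvd_mul_left _ _) a
    have h2 := H3.ncard_orbit_dvd_card P a
    rw [he, Nat.dvd_prime_pow hp] at h2
    obtain ⟨j, -, hj⟩ := h2
    have h3 : (MulAction.orbit P a).ncard ≤ m * p := by
      rw [← hΩ, ← Nat.card_eq_fintype_card, ← Set.ncard_univ]
      exact Set.ncard_le_ncard (Set.subset_univ _)
    rw [hj] at h1 h3 ⊢
    have h4 := (Nat.pow_dvd_pow_iff_le_right hp.one_lt).1 h1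
    have h5 : p ^ j < p ^ 2 := by rw [sq]; exact h3.trans_lt (Nat.mul_lt_mul_of_pos_right hlt hp.pos)
    have h6 := (Nat.pow_lt_pow_iff_right hp.one_lt).1 h5
    rw [show j = 1 by omega, pow_one]
  have hidx : ∀ a : Ω, (MulAction.stabilizer P a).index = p := fun a => by
    rw [MulAction.index_stabilizer, horb]
  have hne : Nonempty Ω := Fintype.card_pos_iff.1 (hΩ ▸ Nat.mul_pos hm hp.pos)
  have he0 : e ≠ 0 := by
    rintro rfl
    obtain ⟨a⟩ := hne
    have := (MulAction.stabilizer P a).index_dvd_card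
    rw [hidx, he, pow_zero, Nat.dvd_one] at this
    exact hp.one_lt.ne' this
  have hnorm : ∀ a : Ω, (MulAction.stabilizer P a).Normal := fun a =>
    Subgroup.normal_of_index_eq_minFac_card (by rw [hidx, he, hp.pow_minFac he0])
  by_cases hex : ∃ g : P, ∀ ω : Ω, g • ω ≠ ω
  · obtain ⟨g, hg⟩ := hex
    refine ⟨g, orderOf_eq_prime (hf _ fun x => ?_) ?_, hg⟩
    · have := hnorm x
      have h := (MulAction.stabilizer P x).pow_index_mem g
      rw [hidx] at h
      exact h
    · obtain ⟨a⟩ := hne
      intro h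
      apply hg a
      change (g : G) • a = a
      rw [h, one_smul]
  exfalso
  push Not at hex
  have := Fintype.ofFinite P
  have key := Finset.sum_card_bipartiteAbove_eq_sum_card_bipartiteBelow
    (s := (Finset.univ : Finset P)) (t := (Finset.univ : Finset Ω)) (fun g ω => g • ω = ω)
  have h1 : ∀ g : P, p ≤ (Finset.univ.bipartiteAbove (fun (g : P) (ω : Ω) => g • ω = ω) g).card := by
    intro g
    obtain ⟨a, ha⟩ := hex g
    rw [← horb a, ← Set.ncard_coe_finset]
    apply Set.ncard_le_ncard _ (Set.toFinite _)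
    rintro _ ⟨h, rfl⟩
    have := (hnorm a).conj_mem' g ha h
    simp only [Finset.coe_bipartiteAbove, Finset.mem_univ, true_and,
      Set.mem_ofPred_eq]
    rw [MulAction.mem_stabilizer_iff, mul_smul, mul_smul, inv_smul_eq_iff] at this
    exact this
  have h2 : ∀ ω : Ω, (Finset.univ.bipartiteBelow (fun (g : P) (ω : Ω) => g • ω = ω) ω).card * p =
      Fintype.card P := by
    intro ω
    have := (MulAction.stabilizer P ω).card_mul_index
    rw [hidx, Nat.card_eq_fintype_card, Nat.card_eq_fintype_card, Fintype.card_subtype] at this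
    rw [← this]
    rfl
  have h3 : Fintype.card P * p ≤ ∑ g : P,
      (Finset.univ.bipartiteAbove (fun (g : P) (ω : Ω) => g • ω = ω) g).card := by
    simpa using Finset.card_nsmul_le_sum Finset.univ _ p fun g _ => h1 g
  have h4 := Nat.mul_le_mul_right p h3
  rw [key, Finset.sum_mul, Finset.sum_congr rfl fun ω _ => h2 ω, Finset.sum_const,
    Finset.card_univ, hΩ, smul_eq_mul] at h4
  have h5 : 0 < Fintype.card P := Fintype.card_pos
  have h6 : Fintype.card P * p * m < Fintype.card P * p * p :=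
    Nat.mul_lt_mul_of_pos_left hlt (Nat.mul_pos h5 hp.pos)
  nlinarith

end Cfsg.Agent.S5727
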