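import Cfsg.Statements.S5728

set_option autoImplicit false
open Cfsg

namespace Cfsg.Agent.S5728



/-- An elusive transitive action. Let p = 2^s − 1 be a prime and let F be the field with p² elements. Inside the group of affine maps x ↦ a·x + b of F (a ≠ 0), consider the subgroup of maps with both coefficients in the prime field. Then every element of prime order of the affine group is conjugate, within the affine group, to an element of that subgroup; equivalently, in the transitive action of the affine group on the cosets of that subgroup (of degree p(p + 1)) every element of prime order fixes a point. -/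
theorem result (p s : ℕ) [Fact p.Prime] (hs : p = 2 ^ s - 1)
    (g : Equiv.Perm (GaloisField p 2)) (hg : g ∈ Cfsg.affineGroup (GaloisField p 2)) (hord : (orderOf g).Prime) :
    ∃ x ∈ Cfsg.affineGroup (GaloisField p 2), ∃ a b : ZMod p, a ≠ 0 ∧
      ∀ y : GaloisField p 2, (x * g * x⁻¹) y = algebraMap (ZMod p) (GaloisField p 2) a * y + algebraMap (ZMod p) (GaloisField p 2) b := by
  classical
  obtain ⟨a, b, hab⟩ := hg
  have hp : p.Prime := Fact.out
  let K := GaloisField p 2
  have hg1 : g ≠ 1 := by rintro rfl; rw [orderOf_one] at hord; exact Nat.not_prime_one hord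
  by_cases ha : (a : K) = 1
  · have hb : b ≠ 0 := by
      rintro rfl
      apply hg1; ext y; rw [hab, ha]; simp
    refine ⟨Equiv.mulLeft₀ b⁻¹ (inv_ne_zero hb), ⟨Units.mk0 b⁻¹ (inv_ne_zero hb), 0, fun x => by simp⟩,
      1, 1, one_ne_zero, fun y => ?_⟩
    simp [hab, ha, Equiv.Perm.inv_def, mul_add, hb]
  · have ha' : (a : K) - 1 ≠ 0 := sub_ne_zero.2 ha
    set c := b / (a - 1) with hc
    have hx : ∀ y, (Equiv.addRight c * g * (Equiv.addRight c)⁻¹) y = a * y := by
      intro y
      simp only [Equiv.Perm.coe_mul, Function.comp_apply, Equiv.Perm.inv_def, Equiv.addRight_symm,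
        Equiv.coe_addRight, hab, hc]
      field_simp
      ring
    set h := Equiv.addRight c * g * (Equiv.addRight c)⁻¹ with hh
    have hpow : ∀ (n : ℕ) y, (h ^ n) y = a ^ n * y := by
      intro n
      induction n with
      | zero => simp
      | succ n ih => intro y; rw [pow_succ', Equiv.Perm.mul_apply, hx, ih]; ring
    have hr : (a : K) ^ orderOf g = 1 := by
      have := hpow (orderOf g) 1
      rw [hh, conj_pow, pow_orderOf_eq_one] at this
      simpa using this.symm
    have : Fact (orderOf g).Prime := ⟨hord⟩
    have ho : orderOf (a : K) = orderOf g := orderOf_eq_prime hr ha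
    have := Fintype.ofFinite K
    have hcard : Fintype.card K = p ^ 2 := by
      rw [← Nat.card_eq_fintype_card]; exact GaloisField.card p 2 (by norm_num)
    have h1 := FiniteField.pow_card_sub_one_eq_one (a : K) a.ne_zero
    rw [hcard, ← orderOf_dvd_iff_pow_eq_one, ho] at h1
    have h2 : p ^ 2 - 1 = (p - 1) * 2 ^ s := by
      have : 0 < 2 ^ s := by positivity
      have h3 : 2 ^ s = p + 1 := by omega
      rw [h3, mul_comm, ← Nat.sq_sub_sq]
    have hpa : (a : K) ^ p = a := by
      rw [h2, hord.dvd_mul] at h1
      rcases h1 with h1 | h1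
      · rw [← ho, orderOf_dvd_iff_pow_eq_one] at h1
        have := pow_succ (a : K) (p - 1)
        rwa [Nat.sub_add_cancel hp.pos, h1, one_mul] at this
      · have h3 := (Nat.prime_dvd_prime_iff_eq hord Nat.prime_two).1 (hord.dvd_of_dvd_pow h1)
        rw [h3, sq_eq_one_iff] at hr
        rw [hr.resolve_left ha]
        exact neg_one_pow_char K p
    obtain ⟨n, hn⟩ := (mem_bot_iff_intCast p K).1
      ((Subfield.mem_bot_iff_pow_eq_self K p).2 hpa)
    refine ⟨Equiv.addRight c, ⟨1, c, fun x => by simp⟩, (n : ZMod p), 0, fun h0 => ?_, fun y => ?_⟩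
    · apply a.ne_zero
      rw [← hn, ← map_intCast (algebraMap (ZMod p) K), h0, map_zero]
    · rw [hx, map_intCast, hn, map_zero, add_zero]

end Cfsg.Agent.S5728
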