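import Cfsg.Statements.S5742
import Cfsg.Agent.H4.FiJ
import Cfsg.Agent.H4.GF2

set_option autoImplicit false
open Cfsg

namespace Cfsg.Agent.S5742

/-- The simple group ²E₆(2) (the twisted group of type E₆ over the field with 4 elements) contains at least three pairwise non-conjugate subgroups isomorphic to the Fischer group Fi₂₂. -/
theorem result {K : Type*} [Field K] [Fintype K] (hK : Fintype.card K = 4) :
    ∃ H : Fin 3 → Subgroup (Cfsg.Lie.twistedE6 K 2),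
      (∀ i, Cfsg.Spor.IsoFi22 (H i)) ∧
      (∀ i j, i ≠ j → ∀ g : (Cfsg.Lie.twistedE6 K 2), (H i).map (MulAut.conj g).toMonoidHom ≠ H j) := by
  haveI := H4.GF2.charP_two (F := K) (k := 2) hK
  obtain ⟨h3, ω, hω, hi⟩ := H4.Fi.exists_w hK
  have hs : ∀ i : ℕ, (ω ^ i) ^ 3 = 1 := fun i => by rw [← pow_mul, mul_comm, pow_mul, H4.Fi.w3 hω, one_pow]
  refine ⟨fun i => H4.Fi.HH hω H4.Fi.g9 (hs i), fun i => ?_,
    fun i j hij g h => hij (hi i j (H4.Fi.nonconj9 hω h3 _ _ g h))⟩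
  obtain ⟨e⟩ := H4.Fi.HH_iso hω H4.Fi.g9 (hs i)
  exact ⟨(e.trans (MulEquiv.subgroupCongr ((Subgroup.eq_top_iff' _).2 H4.Fi.KK_top))).trans Subgroup.topEquiv⟩

end Cfsg.Agent.S5742
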