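import Cfsg.Statements.S5743
import Cfsg.Agent.H4.E27c
import Cfsg.Agent.H4.GF2

set_option autoImplicit false
open Cfsg

namespace Cfsg.Agent.S5743

/-- The simple group ²E₆(2) (the twisted group of type E₆ over the field with 4 elements) contains at least three pairwise non-conjugate subgroups isomorphic to the Chevalley group F₄(2). -/
theorem result {K : Type*} [Field K] [Fintype K] (hK : Fintype.card K = 4) :
    ∃ H : Fin 3 → Subgroup (Cfsg.Lie.twistedE6 K 2),
      (∀ i, Nonempty ((H i) ≃* Cfsg.Lie.chevF4.group (ZMod 2))) ∧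
      (∀ i j, i ≠ j → ∀ g : (Cfsg.Lie.twistedE6 K 2), (H i).map (MulAut.conj g).toMonoidHom ≠ H j) := by
  haveI := H4.GF2.charP_two (F := K) (k := 2) hK
  have h3 : ∀ a : K, a ≠ 0 → a ^ 3 = 1 := fun a ha => by
    have := FiniteField.pow_card_sub_one_eq_one a ha
    rwa [hK] at this
  obtain ⟨ω, h0, h1⟩ : ∃ x : K, x ≠ 0 ∧ x ≠ 1 := by
    classical
    by_contra hh
    push Not at hh
    have : (Finset.univ : Finset K) ⊆ {0, 1} := fun x _ => by
      by_cases h0 : x = 0
      · simp [h0]
      · simp [hh x h0]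
    have := (Finset.card_le_card this).trans Finset.card_le_two
    rw [Finset.card_univ, hK] at this
    omega
  have hs : ∀ i : ℕ, (ω ^ i) ^ 3 = 1 := fun i => h3 _ (pow_ne_zero _ h0)
  have ho : orderOf ω = 3 := by
    haveI : Fact (Nat.Prime 3) := ⟨by norm_num⟩
    exact orderOf_eq_prime (h3 ω h0) h1
  refine ⟨fun i => H4.E27.HH (ω ^ (i : ℕ)), fun i => H4.E27.HH_iso (hs i), fun i j hij g h => hij ?_⟩
  have := H4.E27.HH_nonconj h3 (hs i) (hs j) g h
  exact Fin.ext (pow_injOn_Iio_orderOf (by rw [ho]; exact i.2) (by rw [ho]; exact j.2) this)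

end Cfsg.Agent.S5743
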