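import Cfsg.Statements.S5744
import Cfsg.Agent.H4.FiK
import Cfsg.Agent.H4.GF2

set_option autoImplicit false
open Cfsg

namespace Cfsg.Agent.S5744

/-- The simple group ²E₆(2) (the twisted group of type E₆ over the field with 4 elements) contains at least three pairwise non-conjugate subgroups isomorphic to the orthogonal group Ω₇(3) (the commutator subgroup of the isometry group of x₀² + x₁y₁ + x₂y₂ + x₃y₃ over the field with 3 elements). -/
theorem result {K : Type*} [Field K] [Fintype K] (hK : Fintype.card K = 4) :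
    ∃ H : Fin 3 → Subgroup (Cfsg.Lie.twistedE6 K 2),
      (∀ i, Nonempty ((H i) ≃* Cfsg.Omega (ZMod 3) (Cfsg.quadFormOdd 3 (ZMod 3)))) ∧
      (∀ i j, i ≠ j → ∀ g : (Cfsg.Lie.twistedE6 K 2), (H i).map (MulAut.conj g).toMonoidHom ≠ H j) := by
  haveI := H4.GF2.charP_two (F := K) (k := 2) hK
  obtain ⟨h3, ω, hω, hi⟩ := H4.Fi.exists_w hK
  have hs : ∀ i : ℕ, (ω ^ i) ^ 3 = 1 := fun i => by rw [← pow_mul, mul_comm, pow_mul, H4.Fi.w3 hω, one_pow]
  refine ⟨fun i => H4.Fi.HH hω H4.Fi.g8 (hs i), fun i => ?_,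
    fun i j hij g h => hij (hi i j (H4.Fi.nonconj8 hω h3 _ _ g h))⟩
  obtain ⟨e⟩ := H4.Fi.HH_iso hω H4.Fi.g8 (hs i)
  obtain ⟨e'⟩ := H4.Fi.iso_O7 (H4.Fi.rho_inj hω (hs i)).1
  exact ⟨e.trans e'⟩

end Cfsg.Agent.S5744
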