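import Cfsg.Statements.S5847
import Cfsg.Agent.H8.OAsch7

set_option autoImplicit false
open Cfsg

namespace Cfsg.Agent.S5847

/-- Every maximal subgroup of Ω_10^+(q) is of one of the listed geometric types or lies in the residual class. Let F be a finite field with q elements (characteristic p), Q a non-degenerate quadratic form on F^10 of plus type (Witt index 5: some totally singular 5-space), Ω the commutator subgroup of its isometry group, and H a maximal subgroup of Ω (inside GL_10(F)). Then H is the intersection with Ω of one of: the stabiliser of a non-zero totally singular subspace of dimension ≠ 4; for q odd, the stabiliser of a non-degenerate subspace of odd dimension ≠ 5; the stabiliser of a non-degenerate 2-space of minus type; for q ≥ 4, the stabiliser of a non-degenerate 2-space of plus type; the stabiliser of a non-degenerate 4-space; for q even, the stabiliser of the span of a non-singular vector; for q = p prime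 with p ≡ 1 mod 4, the stabiliser of a decomposition into 10 pairwise orthogonal, pairwise isometric non-degenerate 1-spaces; for q ≥ 7, the stabiliser of a decomposition into 5 pairwise orthogonal, pairwise isometric non-degenerate 2-spaces; for q ≡ 1 mod 4, the stabiliser of a decomposition into 2 pairwise orthogonal, pairwise isometric non-degenerate 5-spaces; for q ≡ 3 mod 4, the stabiliser of a decomposition into two orthogonal, non-isometric non-degenerate 5-spaces; for q odd, the normaliser of a degree-2 subfield of the matrix algebra, self-adjoint for the polar form; a subfield group (|F| = |F₀|^r, r prime) whose F₀-structure carries a non-zero multiple of Q — or else H lies in the residual class of the orthogonal case (modulo scalars H is almost simple, with absolutely irreducible perfect socle preimage realisable over no proper subfield and fixing no non-degenerate unitary form). -/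
theorem result {F : Type*} [Field F] [Fintype F] (Q : (Fin 10 → F) → F) (hQ : Cfsg.Geo.IsNondegenerateQuadraticForm Q) (hplus : Cfsg.Geo.IsPlusTypeOn Q ⊤) (H : Subgroup (Matrix.GeneralLinearGroup (Fin 10) F)) (hH : Cfsg.Geo.IsMaximalIn (Cfsg.Geo.omegaGL Q) H) :
    (∃ W : Submodule F (Fin 10 → F), W ≠ ⊥ ∧ Cfsg.Geo.IsTotallySingularQuad Q W ∧ Module.finrank F W ≠ 4 ∧ H = Cfsg.Geo.subspaceStabilizer W ⊓ Cfsg.Geo.omegaGL Q) ∨
    (Odd (Fintype.card F) ∧ ∃ W : Submodule F (Fin 10 → F), W ≠ ⊥ ∧ W ≠ ⊤ ∧ Odd (Module.finrank F W) ∧ 2 * Module.finrank F W ≠ 10 ∧ Cfsg.Geo.IsNondegenerateOn (QuadraticMap.polar Q) W ∧ H = Cfsg.Geo.subspaceStabilizer W ⊓ Cfsg.Geo.omegaGL Q) ∨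
    (∃ W : Submodule F (Fin 10 → F), Module.finrank F W = 2 ∧ Cfsg.Geo.IsNondegenerateOn (QuadraticMap.polar Q) W ∧ ¬ Cfsg.Geo.IsPlusTypeOn Q W ∧ H = Cfsg.Geo.subspaceStabilizer W ⊓ Cfsg.Geo.omegaGL Q) ∨
    (4 ≤ Fintype.card F ∧ ∃ W : Submodule F (Fin 10 → F), Module.finrank F W = 2 ∧ Cfsg.Geo.IsNondegenerateOn (QuadraticMap.polar Q) W ∧ Cfsg.Geo.IsPlusTypeOn Q W ∧ H = Cfsg.Geo.subspaceStabilizer W ⊓ Cfsg.Geo.omegaGL Q) ∨
    (∃ W : Submodule F (Fin 10 → F), Module.finrank F W = 4 ∧ Cfsg.Geo.IsNondegenerateOn (QuadraticMap.polar Q) W ∧ H = Cfsg.Geo.subspaceStabilizer W ⊓ Cfsg.Geo.omegaGL Q) ∨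
    (¬ Odd (Fintype.card F) ∧ ∃ v : (Fin 10 → F), Q v ≠ 0 ∧ H = Cfsg.Geo.subspaceStabilizer (Submodule.span F {v}) ⊓ Cfsg.Geo.omegaGL Q) ∨
    ((∃ p : ℕ, p.Prime ∧ Fintype.card F = p ∧ (p % 4 = 1)) ∧ ∃ D : Fin 10 → Submodule F (Fin 10 → F), Cfsg.Geo.IsOrthogonalMDecomposition Q 1 D ∧ H = Cfsg.Geo.decompositionStabilizer D ⊓ Cfsg.Geo.omegaGL Q) ∨
    (7 ≤ Fintype.card F ∧ ∃ D : Fin 5 → Submodule F (Fin 10 → F), Cfsg.Geo.IsOrthogonalMDecomposition Q 2 D ∧ H = Cfsg.Geo.decompositionStabilizer D ⊓ Cfsg.Geo.omegaGL Q) ∨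
    (Fintype.card F % 4 = 1 ∧ ∃ D : Fin 2 → Submodule F (Fin 10 → F), Cfsg.Geo.IsOrthogonalMDecomposition Q 5 D ∧ H = Cfsg.Geo.decompositionStabilizer D ⊓ Cfsg.Geo.omegaGL Q) ∨
    (Fintype.card F % 4 = 3 ∧ ∃ D : Fin 2 → Submodule F (Fin 10 → F), Cfsg.Geo.IsNondegenerateMDecomposition (QuadraticMap.polar Q) 5 D ∧ ¬ Cfsg.Geo.AreIsometricFor Q (D 0) (D 1) ∧ H = Cfsg.Geo.decompositionStabilizer D ⊓ Cfsg.Geo.omegaGL Q) ∨
    (Odd (Fintype.card F) ∧ ∃ K : Subalgebra F (Matrix (Fin 10) (Fin 10) F), Cfsg.Geo.IsFieldSubalgebra 2 K ∧ Cfsg.Geo.IsSelfAdjointFor (QuadraticMap.polar Q) K ∧ H = Cfsg.Geo.subalgebraNormalizer K ⊓ Cfsg.Geo.omegaGL Q) ∨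
    (∃ (F₀ : Subfield F) (r : ℕ) (P : Matrix.GeneralLinearGroup (Fin 10) F) (ζ : F), r.Prime ∧ Fintype.card F = Nat.card F₀ ^ r ∧ ζ ≠ 0 ∧ Cfsg.Geo.IsQuadFormRationalStructure (fun v : Fin 10 → F => ζ * Q v) F₀ P ∧ H = Cfsg.Geo.subfieldSubgroup F₀ P ⊓ Cfsg.Geo.omegaGL Q) ∨
    Cfsg.Geo.InOrthogonalResidualClass H := by
  have hc : Fintype.card (Fin 10) = 10 := Fintype.card_fin _
  have hq := Fintype.one_lt_card (α := F)
  rcases H8.asch_orth hQ (by omega) (Or.inr (by omega)) hH.1.le with ⟨W, h0, hW, hs⟩ |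
    ⟨W, h0, hW, hd, hs⟩ | ⟨h, v, hv, hs⟩ | ⟨t, k, D, hD, hs, hk⟩ | h |
    ⟨r, K, hr, hK, hsa, hs, h1, -, h2, h3⟩ | ⟨K, hK, h1, h2, h3, hs, -, h4⟩ |
    ⟨hodd, a, b, e, P, f₁, f₂, h1, h2, h3, h4, h5, h6, h7, hs, h8⟩ |
    ⟨h0, hp, b, e, P, f₁, f₂, h1, h2, h3, h4, h5, h6, hs⟩ | ⟨k, t, e, P, f₁, h1, h2, h3, -⟩ | h |
    ⟨h, hp⟩ | h
  · obtain ⟨h1, h2⟩ := H8.ts_max hQ (by omega) hH h0 hW hs
    have h3 := h2 hplus
    exact Or.inl (⟨W, h0, hW, by omega, h1⟩)
  · obtain ⟨h1, h2, h3, h4⟩ := H8.nd_max hQ (by omega) hH h0 hW (by omega) hs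
    rcases Nat.even_or_odd (Module.finrank F W) with he | ho
    · by_cases h5 : Module.finrank F W = 2
      · by_cases hp : Cfsg.Geo.IsPlusTypeOn Q W
        · exact Or.inr (Or.inr (Or.inr (Or.inl (⟨h4 h5 hp, W, h5, hW, hp, h1⟩))))
        · exact Or.inr (Or.inr (Or.inl (⟨W, h5, hW, hp, h1⟩)))
      · rw [Nat.even_iff] at he
        exact Or.inr (Or.inr (Or.inr (Or.inr (Or.inl (⟨W, by omega, hW, h1⟩)))))
    have hodd := H8.odd_card_of_odd_finrank hQ hW ho
    by_cases h5 : Module.finrank F W = 5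
    · obtain ⟨hD, hs'⟩ := H8.half_dec hQ hH.1.le h0 hW (by omega) hs
      rw [h5] at hD
      have h6 := H8.eq_of_max hH hs' (H8.not_le_dec hQ (by omega) hD.decomp)
      have h7 := H8.isometric_iff_odd hQ hD (by decide) (by omega)
      rw [H8.isSquare_neg_one_iff' hodd] at h7
      by_cases h8 : Fintype.card F % 4 = 1
      · exact Or.inr (Or.inr (Or.inr (Or.inr (Or.inr (Or.inr (Or.inr (Or.inr (Or.inl (⟨h8, _, H8.orth_of_isometric hD (h7.2 (iff_of_true hplus h8)), h6⟩)))))))))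
      · rw [Nat.odd_iff] at hodd
        exact Or.inr (Or.inr (Or.inr (Or.inr (Or.inr (Or.inr (Or.inr (Or.inr (Or.inr (Or.inl (⟨by omega, _, hD, fun h => h8 ((h7.1 h).1 hplus), h6⟩))))))))))
    · exact Or.inr (Or.inl (⟨hodd, W, h0, h2, ho, by omega, hW, h1⟩))
  · exact Or.inr (Or.inr (Or.inr (Or.inr (Or.inr (Or.inl (⟨h, v, hv, H8.line_max hQ (by omega) hH hv hs⟩))))))
  · obtain ⟨h1, h2, h3, h4, h5, h6⟩ := H8.dec_max hQ (by omega) hH hD hs
    obtain ⟨h6, -⟩ := h6 (by omega)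
    rw [hc] at h2
    have h7 : k ≤ 5 := by nlinarith
    interval_cases k
    · obtain rfl : t = 10 := by omega
      have h8 := (H8.plus_top_odd hQ hD (by decide) (j := 5) (by omega)).1 hplus
      rw [H8.isSquare_neg_one_iff' (h5 (by decide))] at h8
      exact Or.inr (Or.inr (Or.inr (Or.inr (Or.inr (Or.inr (Or.inl (⟨⟨_, hk rfl, rfl, h8.resolve_right (by decide)⟩, D, hD, h1⟩)))))))
    · obtain rfl : t = 5 := by omega
      exact Or.inr (Or.inr (Or.inr (Or.inr (Or.inr (Or.inr (Or.inr (Or.inl (⟨(h6 rfl).2 fun i => ((H8.plus_top_even hQ hD (by decide) i).1 hplus).resolve_right (by decide), D, hD, h1⟩))))))))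
    · omega
    · omega
    · obtain rfl : t = 2 := by omega
      have h8 := (H8.plus_top_odd hQ hD (by decide) (j := 1) (by omega)).1 hplus
      rw [H8.isSquare_neg_one_iff' (h5 (by decide))] at h8
      exact Or.inr (Or.inr (Or.inr (Or.inr (Or.inr (Or.inr (Or.inr (Or.inr (Or.inl (⟨h8.resolve_right (by decide), D, hD, h1⟩)))))))))
  · obtain ⟨k, D, hk, hD, hts, hs⟩ := h
    obtain rfl : k = 5 := by omega
    exact (H8.not_between hH hs (H8.nm_pair hQ (by omega) hk (by decide) hD hts)).elim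
  · rw [hc] at h1 h2 h3
    obtain rfl : r = 2 := by
      rcases (hr.dvd_mul (m := 2) (n := 5)).1 h1 with h | h
      · exact (Nat.prime_dvd_prime_iff_eq hr Nat.prime_two).1 h
      · exact h2 (by rw [(Nat.prime_dvd_prime_iff_eq hr Nat.prime_five).1 h])
    have hodd : Odd (Fintype.card F) := by
      by_contra h
      exact absurd (h3 rfl h) (by decide)
    exact Or.inr (Or.inr (Or.inr (Or.inr (Or.inr (Or.inr (Or.inr (Or.inr (Or.inr (Or.inr (Or.inl (⟨hodd, K, hK, hsa, H8.eq_of_max hH hs (H8.not_le_field hQ (by omega) le_rfl hK)⟩)))))))))))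
  · exact absurd (h4.1 hplus) (by rw [hc]; decide)
  · rw [hc] at h3
    nlinarith
  · rw [Nat.even_iff] at h2
    omega
  · rw [hc] at h3
    have h7 : k ^ 2 ≤ 10 := h3 ▸ Nat.pow_le_pow_right (by omega) h2
    obtain rfl : k = 3 := by nlinarith
    have h8 : 3 ^ t % 2 = 1 := Nat.odd_iff.1 (Odd.pow (by decide))
    omega
  · exact Or.inr (Or.inr (Or.inr (Or.inr (Or.inr (Or.inr (Or.inr (Or.inr (Or.inr (Or.inr (Or.inr (Or.inl (H8.csub_max hQ (by omega) hH h))))))))))))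
  · omega
  · exact Or.inr (Or.inr (Or.inr (Or.inr (Or.inr (Or.inr (Or.inr (Or.inr (Or.inr (Or.inr (Or.inr (Or.inr (h))))))))))))

end Cfsg.Agent.S5847
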