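import Cfsg.Statements.S5874
import Cfsg.Agent.H8.OAsch7

set_option autoImplicit false
open Cfsg

namespace Cfsg.Agent.S5874

/-- Every maximal subgroup of Ω_12^-(q) is of one of the listed geometric types or lies in the residual class. Let F be a finite field with q elements (characteristic p), Q a non-degenerate quadratic form on F^12 of minus type (Witt index 5: no totally singular 6-space), Ω the commutator subgroup of its isometry group, and H a maximal subgroup of Ω (inside GL_12(F)). Then H is the intersection with Ω of one of: the stabiliser of a non-zero totally singular subspace; for q odd, the stabiliser of a non-degenerate subspace of odd dimension; the stabiliser of a non-degenerate 2-space of minus type; for q ≥ 4, the stabiliser of a non-degenerate 2-space of plus type; the stabiliser of a non-degenerate 4-space; the stabiliser of a non-degenerate 6-space; for q even, the stabiliser of the span of a non-singular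 vector; the stabiliser of a decomposition into 3 pairwise orthogonal, pairwise isometric non-degenerate 4-spaces of minus type; the normaliser of a degree-2 subfield of the matrix algebra; the normaliser of a degree-3 subfield of the matrix algebra; for q odd with q ≥ 5, the stabiliser of a tensor decomposition of the polar form into symmetric forms on F^3 and F^4 (minus type); a subfield group (|F| = |F₀|^r, r odd prime) whose F₀-structure carries a non-zero multiple of Q — or else H lies in the residual class of the orthogonal case (modulo scalars H is almost simple, with absolutely irreducible perfect socle preimage realisable over no proper subfield and fixing no non-degenerate unitary form). -/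
theorem result {F : Type*} [Field F] [Fintype F] (Q : (Fin 12 → F) → F) (hQ : Cfsg.Geo.IsNondegenerateQuadraticForm Q) (hminus : ¬ Cfsg.Geo.IsPlusTypeOn Q ⊤) (H : Subgroup (Matrix.GeneralLinearGroup (Fin 12) F)) (hH : Cfsg.Geo.IsMaximalIn (Cfsg.Geo.omegaGL Q) H) :
    (∃ W : Submodule F (Fin 12 → F), W ≠ ⊥ ∧ Cfsg.Geo.IsTotallySingularQuad Q W ∧ H = Cfsg.Geo.subspaceStabilizer W ⊓ Cfsg.Geo.omegaGL Q) ∨
    (Odd (Fintype.card F) ∧ ∃ W : Submodule F (Fin 12 → F), W ≠ ⊥ ∧ W ≠ ⊤ ∧ Odd (Module.finrank F W) ∧ 2 * Module.finrank F W ≠ 12 ∧ Cfsg.Geo.IsNondegenerateOn (QuadraticMap.polar Q) W ∧ H = Cfsg.Geo.subspaceStabilizer W ⊓ Cfsg.Geo.omegaGL Q) ∨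
    (∃ W : Submodule F (Fin 12 → F), Module.finrank F W = 2 ∧ Cfsg.Geo.IsNondegenerateOn (QuadraticMap.polar Q) W ∧ ¬ Cfsg.Geo.IsPlusTypeOn Q W ∧ H = Cfsg.Geo.subspaceStabilizer W ⊓ Cfsg.Geo.omegaGL Q) ∨
    (4 ≤ Fintype.card F ∧ ∃ W : Submodule F (Fin 12 → F), Module.finrank F W = 2 ∧ Cfsg.Geo.IsNondegenerateOn (QuadraticMap.polar Q) W ∧ Cfsg.Geo.IsPlusTypeOn Q W ∧ H = Cfsg.Geo.subspaceStabilizer W ⊓ Cfsg.Geo.omegaGL Q) ∨
    (∃ W : Submodule F (Fin 12 → F), Module.finrank F W = 4 ∧ Cfsg.Geo.IsNondegenerateOn (QuadraticMap.polar Q) W ∧ H = Cfsg.Geo.subspaceStabilizer W ⊓ Cfsg.Geo.omegaGL Q) ∨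
    (∃ W : Submodule F (Fin 12 → F), Module.finrank F W = 6 ∧ Cfsg.Geo.IsNondegenerateOn (QuadraticMap.polar Q) W ∧ H = Cfsg.Geo.subspaceStabilizer W ⊓ Cfsg.Geo.omegaGL Q) ∨
    (¬ Odd (Fintype.card F) ∧ ∃ v : (Fin 12 → F), Q v ≠ 0 ∧ H = Cfsg.Geo.subspaceStabilizer (Submodule.span F {v}) ⊓ Cfsg.Geo.omegaGL Q) ∨
    (∃ D : Fin 3 → Submodule F (Fin 12 → F), Cfsg.Geo.IsOrthogonalMDecomposition Q 4 D ∧ (∀ i, ¬ Cfsg.Geo.IsPlusTypeOn Q (D i)) ∧ H = Cfsg.Geo.decompositionStabilizer D ⊓ Cfsg.Geo.omegaGL Q) ∨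
    (∃ K : Subalgebra F (Matrix (Fin 12) (Fin 12) F), Cfsg.Geo.IsFieldSubalgebra 2 K ∧ H = Cfsg.Geo.subalgebraNormalizer K ⊓ Cfsg.Geo.omegaGL Q) ∨
    (∃ K : Subalgebra F (Matrix (Fin 12) (Fin 12) F), Cfsg.Geo.IsFieldSubalgebra 3 K ∧ H = Cfsg.Geo.subalgebraNormalizer K ⊓ Cfsg.Geo.omegaGL Q) ∨
    (Odd (Fintype.card F) ∧ 5 ≤ Fintype.card F ∧ ∃ (e : Fin 12 ≃ Fin 3 × Fin 4) (P : Matrix.GeneralLinearGroup (Fin 12) F) (f₁ : (Fin 3 → F) → (Fin 3 → F) → F) (f₂ : (Fin 4 → F) → (Fin 4 → F) → F), Cfsg.Geo.IsSymmetricForm f₁ ∧ Cfsg.Geo.IsSymmetricForm f₂ ∧ ¬ Cfsg.Geo.IsPlusTypeOn (fun v : Fin 4 → F => f₂ v v) ⊤ ∧ Cfsg.Geo.IsTensorFormStructure id (QuadraticMap.polar Q) f₁ f₂ e P ∧ H = Cfsg.Geo.tensorProductSubgroup 3 4 e P ⊓ Cfsg.Geo.omegaGL Q) ∨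
    (∃ (F₀ : Subfield F) (r : ℕ) (P : Matrix.GeneralLinearGroup (Fin 12) F) (ζ : F), r.Prime ∧ Odd r ∧ Fintype.card F = Nat.card F₀ ^ r ∧ ζ ≠ 0 ∧ Cfsg.Geo.IsQuadFormRationalStructure (fun v : Fin 12 → F => ζ * Q v) F₀ P ∧ H = Cfsg.Geo.subfieldSubgroup F₀ P ⊓ Cfsg.Geo.omegaGL Q) ∨
    Cfsg.Geo.InOrthogonalResidualClass H := by
  have hc : Fintype.card (Fin 12) = 12 := Fintype.card_fin _
  have hq := Fintype.one_lt_card (α := F)
  rcases H8.asch_orth hQ (by omega) (Or.inr (by omega)) hH.1.le with ⟨W, h0, hW, hs⟩ |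
    ⟨W, h0, hW, hd, hs⟩ | ⟨h, v, hv, hs⟩ | ⟨t, k, D, hD, hs, hk⟩ | h |
    ⟨r, K, hr, hK, hsa, hs, h1, -, h2, h3⟩ | ⟨K, hK, h1, h2, h3, hs, -, h4⟩ |
    ⟨hodd, a, b, e, P, f₁, f₂, h1, h2, h3, h4, h5, h6, h7, hs, h8⟩ |
    ⟨h0, hp, b, e, P, f₁, f₂, h1, h2, h3, h4, h5, h6, hs⟩ | ⟨k, t, e, P, f₁, h1, h2, h3, -⟩ | h |
    ⟨h, hp⟩ | h
  · exact Or.inl (⟨W, h0, hW, (H8.ts_max hQ (by omega) hH h0 hW hs).1⟩)
  · obtain ⟨h1, h2, h3, h4⟩ := H8.nd_max hQ (by omega) hH h0 hW (by omega) hs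
    rcases Nat.even_or_odd (Module.finrank F W) with he | ho
    · by_cases h5 : Module.finrank F W = 2
      · by_cases hp : Cfsg.Geo.IsPlusTypeOn Q W
        · exact Or.inr (Or.inr (Or.inr (Or.inl (⟨h4 h5 hp, W, h5, hW, hp, h1⟩))))
        · exact Or.inr (Or.inr (Or.inl (⟨W, h5, hW, hp, h1⟩)))
      by_cases h6 : Module.finrank F W = 6
      · exact Or.inr (Or.inr (Or.inr (Or.inr (Or.inr (Or.inl (⟨W, h6, hW, h1⟩))))))
      · rw [Nat.even_iff] at he
        exact Or.inr (Or.inr (Or.inr (Or.inr (Or.inl (⟨W, by omega, hW, h1⟩)))))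
    · have h5 := Nat.odd_iff.1 ho
      exact Or.inr (Or.inl (⟨H8.odd_card_of_odd_finrank hQ hW ho, W, h0, h2, ho, by omega, hW, h1⟩))
  · exact Or.inr (Or.inr (Or.inr (Or.inr (Or.inr (Or.inr (Or.inl (⟨h, v, hv, H8.line_max hQ (by omega) hH hv hs⟩)))))))
  · obtain ⟨h1, h2, h3, h4, -⟩ := H8.dec_max hQ (by omega) hH hD hs
    rw [hc] at h2
    have h7 : k ≤ 6 := by nlinarith
    interval_cases k
    · exact absurd ((H8.plus_top_odd hQ hD (by decide) (j := 6) (by omega)).2 (Or.inr (by decide))) hminus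
    · obtain rfl : t = 6 := by omega
      exact absurd ((H8.plus_top_even hQ hD (by decide) 0).2 (Or.inr (by decide))) hminus
    · exact absurd ((H8.plus_top_odd hQ hD (by decide) (j := 2) (by omega)).2 (Or.inr (by decide))) hminus
    · obtain rfl : t = 3 := by omega
      exact Or.inr (Or.inr (Or.inr (Or.inr (Or.inr (Or.inr (Or.inr (Or.inl (⟨D, hD, fun i h => hminus ((H8.plus_top_even hQ hD (by decide) i).2 (Or.inl h)), h1⟩))))))))
    · omega
    · obtain rfl : t = 2 := by omega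
      exact absurd ((H8.plus_top_even hQ hD (by decide) 0).2 (Or.inr (by decide))) hminus
  · exact absurd (H8.CD2.plus hQ h) hminus
  · rw [hc] at h1
    have h4 : r = 2 ∨ r = 3 := by
      rcases (hr.dvd_mul (m := 2 ^ 2) (n := 3)).1 h1 with h | h
      · exact Or.inl ((Nat.prime_dvd_prime_iff_eq hr Nat.prime_two).1 (hr.dvd_of_dvd_pow h))
      · exact Or.inr ((Nat.prime_dvd_prime_iff_eq hr Nat.prime_three).1 h)
    have h5 := H8.eq_of_max hH hs (H8.not_le_field hQ (by omega) hr.two_le hK)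
    rcases h4 with rfl | rfl
    · exact Or.inr (Or.inr (Or.inr (Or.inr (Or.inr (Or.inr (Or.inr (Or.inr (Or.inl (⟨K, hK, h5⟩)))))))))
    · exact Or.inr (Or.inr (Or.inr (Or.inr (Or.inr (Or.inr (Or.inr (Or.inr (Or.inr (Or.inl (⟨K, hK, h5⟩))))))))))
  · exact absurd (h4.2 (by rw [hc]; decide)) hminus
  · rw [hc] at h3
    obtain rfl : a = 3 := by nlinarith
    obtain rfl : b = 4 := by omega
    have h9 := Nat.odd_iff.1 hodd
    have h10 : Fintype.card F ≠ 3 := fun h => h4 h rfl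
    exact Or.inr (Or.inr (Or.inr (Or.inr (Or.inr (Or.inr (Or.inr (Or.inr (Or.inr (Or.inr (Or.inl (⟨hodd, by omega, e, P, f₁, f₂, h5, h6, (h8 rfl rfl).1, h7, H8.eq_of_max hH hs (H8.not_le_tensor hQ (by omega) (by omega) e P)⟩)))))))))))
  · exact absurd hp hminus
  · rw [hc] at h3
    have h7 : k ^ 2 ≤ 12 := h3 ▸ Nat.pow_le_pow_right (by omega) h2
    obtain rfl : k = 3 := by nlinarith
    have h8 : 3 ^ t % 2 = 1 := Nat.odd_iff.1 (Odd.pow (by decide))
    omega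
  · exact Or.inr (Or.inr (Or.inr (Or.inr (Or.inr (Or.inr (Or.inr (Or.inr (Or.inr (Or.inr (Or.inr (Or.inl (H8.csub_max_minus hQ (by omega) (by rw [hc]; decide) hminus hH h))))))))))))
  · omega
  · exact Or.inr (Or.inr (Or.inr (Or.inr (Or.inr (Or.inr (Or.inr (Or.inr (Or.inr (Or.inr (Or.inr (Or.inr (h))))))))))))

end Cfsg.Agent.S5874
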